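import Groth.Agent.Lib.FS92.FinitePres
import Mathlib.RingTheory.Nakayama
import Mathlib.RingTheory.Jacobson.Ideal

/-! A finite presentation neighbourhood of a smooth Cartier divisor. -/

set_option autoImplicit false

universe u

open MvPolynomial

namespace Groth.Agent.Lib.FS92.FinitePresNhd

theorem exists_fp_nhd {R C : Type u} [CommRing R] [CommRing C] [Algebra R C] [Algebra.FiniteType R C]
    (t : C) (ht : t ∈ nonZeroDivisors C) [Algebra.Smooth R (C ⧸ Ideal.span {t})]
    [Algebra.FinitePresentation R (Localization.Away t)] (q : Ideal C) [q.IsPrime] (htq : t ∈ q) :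
    ∃ h, h ∉ q ∧ Algebra.FinitePresentation R (Localization.Away h) := by
  classical
  obtain ⟨n, ρ, hρ⟩ := Algebra.FiniteType.iff_quotient_mvPolynomial''.1 ‹Algebra.FiniteType R C›
  let P := MvPolynomial (Fin n) R
  let K : Ideal P := RingHom.ker ρ.toRingHom
  obtain ⟨x, hx⟩ := hρ t
  obtain ⟨T₀, hT₀, hk₀⟩ := FinitePres.exists_span_ker_at ρ hρ q t ht htq
  -- modulo the divisor
  have hfg : (K ⊔ Ideal.span {x}).FG := by
    have h1 : (RingHom.ker ((Ideal.Quotient.mkₐ R (Ideal.span {t})).comp ρ).toRingHom).FG :=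
      Algebra.FinitePresentation.ker_fG_of_surjective _ (Ideal.Quotient.mk_surjective.comp hρ)
    convert h1 using 1
    ext p
    show p ∈ K ⊔ Ideal.span {x} ↔ Ideal.Quotient.mk (Ideal.span {t}) (ρ p) = 0
    rw [Ideal.Quotient.eq_zero_iff_mem, Ideal.mem_span_singleton']
    constructor
    · intro hp
      obtain ⟨k, hk, w, hw, rfl⟩ := Submodule.mem_sup.1 hp
      obtain ⟨a, rfl⟩ := Ideal.mem_span_singleton'.1 hw
      exact ⟨ρ a, by rw [map_add, map_mul, hx, show ρ k = 0 from hk, zero_add]⟩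
    · rintro ⟨a, ha⟩
      obtain ⟨a', rfl⟩ := hρ a
      rw [← sub_add_cancel p (a' * x)]
      exact Submodule.add_mem_sup (show ρ (p - a' * x) = 0 by rw [map_sub, map_mul, hx, ha, sub_self])
        (Ideal.mem_span_singleton'.2 ⟨a', rfl⟩)
  obtain ⟨F, hF⟩ := hfg
  have hdec : ∀ f ∈ F, ∃ k, ρ k = 0 ∧ ∃ a, f = k + a * x := fun f hf => by
    obtain ⟨k, hk, w, hw, rfl⟩ := Submodule.mem_sup.1 (hF ▸ Submodule.subset_span hf : f ∈ K ⊔ Ideal.span {x})
    obtain ⟨a, rfl⟩ := Ideal.mem_span_singleton'.1 hw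
    exact ⟨k, hk, a, rfl⟩
  choose! k hk a ha using hdec
  let J : Ideal P := Ideal.span ((T₀ ∪ F.image k : Finset P) : Set P)
  have hJfg : J.FG := ⟨_, rfl⟩
  have hJK : J ≤ K := Ideal.span_le.2 fun p hp => by
    rcases Finset.mem_union.1 hp with h | h
    · exact hT₀ p h
    · obtain ⟨f, hf, rfl⟩ := Finset.mem_image.1 h
      exact hk f hf
  have hKJ : ∀ p ∈ K, ∃ b ∈ K, p - b * x ∈ J := fun p hp => by
    have h1 : p ∈ J ⊔ Ideal.span {x} := by
      have h2 : p ∈ Submodule.span P (F : Set P) := hF.ge (Submodule.mem_sup_left hp)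
      refine Submodule.span_le.2 (fun f hf => ?_) h2
      rw [ha f hf]
      exact Submodule.add_mem_sup (Ideal.subset_span (by simp only [Finset.coe_union, Finset.coe_image]; exact Or.inr ⟨f, hf, rfl⟩))
        (Ideal.mem_span_singleton'.2 ⟨_, rfl⟩)
    obtain ⟨j, hj, w, hw, rfl⟩ := Submodule.mem_sup.1 h1
    obtain ⟨b, rfl⟩ := Ideal.mem_span_singleton'.1 hw
    refine ⟨b, ?_, by simpa using hj⟩
    have h0 : ρ b * t = 0 := by
      have h2 : ρ (j + b * x) = 0 := hp
      rwa [map_add, show ρ j = 0 from hJK hj, zero_add, map_mul, hx] at h2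
    exact (mul_right_mem_nonZeroDivisors_eq_zero_iff ht).1 h0
  -- away from the divisor
  have hK1 : ∃ G : Finset P, (∀ p ∈ G, ρ p = 0) ∧ ∀ p ∈ K, ∃ N, x ^ N * p ∈ Ideal.span (G : Set P) := by
    let ψ₀ : Localization.Away x →+* Localization.Away t :=
      IsLocalization.Away.lift x (g := (algebraMap C (Localization.Away t)).comp ρ.toRingHom)
        (by show IsUnit (algebraMap C _ (ρ x)); rw [hx]; exact IsLocalization.Away.algebraMap_isUnit t)
    let ψ : Localization.Away x →ₐ[R] Localization.Away t :=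
      { ψ₀ with
        commutes' := fun r => by
          show ψ₀ _ = _
          simp only [ψ₀]
          rw [IsScalarTower.algebraMap_apply R P (Localization.Away x), IsLocalization.Away.lift_eq]
          show algebraMap C _ (ρ (algebraMap R P r)) = _
          rw [AlgHom.commutes, ← IsScalarTower.algebraMap_apply] }
    have hψ : ∀ p, ψ (algebraMap P _ p) = algebraMap C _ (ρ p) := fun p => by
      show ψ₀ _ = _
      simp only [ψ₀]
      exact IsLocalization.Away.lift_eq x _ p
    have hψs : Function.Surjective ψ := fun z => by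
      obtain ⟨⟨c, _, N, rfl⟩, hc⟩ := IsLocalization.surj (Submonoid.powers t) z
      obtain ⟨p, rfl⟩ := hρ c
      refine ⟨IsLocalization.mk' (Localization.Away x) p (⟨x ^ N, N, rfl⟩ : Submonoid.powers x), ?_⟩
      refine ((IsLocalization.map_units (Localization.Away t) (⟨t ^ N, N, rfl⟩ : Submonoid.powers t)).mul_left_inj).1 ?_
      show ψ _ * algebraMap C _ (t ^ N) = z * algebraMap C _ (t ^ N)
      rw [hc, show t ^ N = ρ (x ^ N) by rw [map_pow, hx], ← hψ, ← hψ, ← map_mul]
      exact congrArg ψ (IsLocalization.mk'_spec (Localization.Away x) p (⟨x ^ N, N, rfl⟩ : Submonoid.powers x))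
    obtain ⟨G', hG'⟩ := Algebra.FinitePresentation.ker_fG_of_surjective ψ hψs
    have hnum : ∀ w ∈ G', ∃ p, ρ p = 0 ∧ ∃ N, w * algebraMap P _ (x ^ N) = algebraMap P _ p := fun w hw => by
      obtain ⟨⟨p, _, N, rfl⟩, hp⟩ := IsLocalization.surj (Submonoid.powers x) w
      have h0 : algebraMap C (Localization.Away t) (ρ p) = 0 := by
        rw [← hψ, ← hp, map_mul, show ψ w = 0 from RingHom.mem_ker.1 (hG' ▸ Submodule.subset_span hw), zero_mul]
      refine ⟨p, ?_, N, hp⟩
      obtain ⟨⟨s, M, rfl⟩, hs⟩ := (IsLocalization.map_eq_zero_iff (Submonoid.powers t) _ (ρ p)).1 h0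
      exact (mul_left_mem_nonZeroDivisors_eq_zero_iff (pow_mem ht M)).1 hs
    choose! num hnum1 N hnum2 using hnum
    refine ⟨G'.image num, fun p hp => ?_, fun p hp => ?_⟩
    · obtain ⟨w, hw, rfl⟩ := Finset.mem_image.1 hp
      exact hnum1 w hw
    have h1 : algebraMap P (Localization.Away x) p ∈
        (Ideal.span ((G'.image num : Finset P) : Set P)).map (algebraMap P (Localization.Away x)) := by
      have h2 : algebraMap P (Localization.Away x) p ∈ Ideal.span (G' : Set (Localization.Away x)) := by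
        rw [hG', RingHom.mem_ker]
        show ψ _ = 0
        rw [hψ, show ρ p = 0 from hp, map_zero]
      refine Submodule.span_le.2 (fun w hw => ?_) h2
      refine (Ideal.mul_unit_mem_iff_mem _ (IsLocalization.map_units (Localization.Away x)
        (⟨x ^ N w, N w, rfl⟩ : Submonoid.powers x))).1 ?_
      rw [hnum2 w hw]
      exact Ideal.mem_map_of_mem _ (Ideal.subset_span (by simp only [Finset.coe_image]; exact ⟨w, hw, rfl⟩))
    rw [IsLocalization.algebraMap_mem_map_algebraMap_iff (Submonoid.powers x)] at h1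
    obtain ⟨_, ⟨M, rfl⟩, hM⟩ := h1
    exact ⟨M, hM⟩
  obtain ⟨G, hG, hGK⟩ := hK1
  have hGe : ∀ p ∈ G, ∃ e, ρ e ∉ q ∧ e * p ∈ J := fun p hp => by
    obtain ⟨e, he, hep⟩ := hk₀ p (hG p hp)
    exact ⟨e, he, Ideal.span_mono (by simp [Finset.coe_union]) hep⟩
  choose! e he heJ using hGe
  let E := ∏ p ∈ G, e p
  have hE : ρ E ∉ q := by
    rw [map_prod]
    exact q.primeCompl.prod_mem (fun p hp => he p hp)
  have hEG : ∀ p ∈ Ideal.span (G : Set P), E * p ∈ J := fun p hp => by
    refine Submodule.span_induction (fun w hw => ?_) (by simp) (fun u v _ _ hu hv => by rw [mul_add]; exact add_mem hu hv)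
      (fun r u _ hu => by rw [smul_eq_mul, mul_left_comm]; exact Ideal.mul_mem_left _ _ hu) hp
    simp only [E]
    rw [← Finset.prod_erase_mul _ _ hw, mul_assoc]
    exact Ideal.mul_mem_left _ _ (heJ w hw)
  have hmain : ∀ p ∈ K, ∃ m, E ^ m * p ∈ J := by
    intro p hp
    let M : Ideal P := Submodule.comap (LinearMap.mulRight P p) J
    have hM : ∀ b, b ∈ M ↔ b * p ∈ J := fun b => Iff.rfl
    suffices E ∈ M.radical from this.imp fun m hm => (hM _).1 hm
    rw [Ideal.radical_eq_sInf, Ideal.mem_sInf]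
    rintro 𝔭 ⟨h𝔭, h𝔭p⟩
    haveI := h𝔭p
    by_contra hE𝔭
    have hJ𝔭 : J ≤ 𝔭 := fun j hj => h𝔭 ((hM j).2 (Ideal.mul_mem_right _ _ hj))
    by_cases hx𝔭 : x ∈ 𝔭
    · have hK𝔭 : K ≤ 𝔭 := fun b hb => by
        obtain ⟨c, -, hc⟩ := hKJ b hb
        simpa using add_mem (hJ𝔭 hc) (Ideal.mul_mem_left 𝔭 c hx𝔭)
      haveI : (𝔭.map ρ.toRingHom).IsPrime := Ideal.map_isPrime_of_surjective hρ hK𝔭
      have hcomap : ∀ b, ρ b ∈ 𝔭.map ρ.toRingHom ↔ b ∈ 𝔭 := fun b => by
        show b ∈ (𝔭.map ρ.toRingHom).comap ρ.toRingHom ↔ _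
        rw [Ideal.comap_map_of_surjective ρ.toRingHom hρ, ← RingHom.ker_eq_comap_bot, sup_eq_left.2 hK𝔭]
      obtain ⟨T₁, hT₁, hk₁⟩ := FinitePres.exists_span_ker_at ρ hρ (𝔭.map ρ.toRingHom) t ht
        (hx ▸ Ideal.mem_map_of_mem ρ.toRingHom hx𝔭)
      let L := Localization.AtPrime 𝔭
      have hKeq : K.map (algebraMap P L) = (Ideal.span (T₁ : Set P)).map (algebraMap P L) := by
        refine le_antisymm (Ideal.map_le_iff_le_comap.2 fun b hb => ?_) (Ideal.map_mono (Ideal.span_le.2 hT₁))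
        obtain ⟨c, hc, hcb⟩ := hk₁ b hb
        rw [Ideal.mem_comap, IsLocalization.algebraMap_mem_map_algebraMap_iff 𝔭.primeCompl]
        exact ⟨c, fun hc' => hc ((hcomap c).2 hc'), hcb⟩
      have hle : K.map (algebraMap P L) ≤ J.map (algebraMap P L) := by
        refine Submodule.le_of_le_smul_of_le_jacobson_bot (I := IsLocalRing.maximalIdeal L)
          (hKeq ▸ Ideal.FG.map ⟨T₁, rfl⟩ _) (IsLocalRing.maximalIdeal_le_jacobson _) ?_
        rw [Ideal.map_le_iff_le_comap]
        intro b hb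
        obtain ⟨c, hc, hcb⟩ := hKJ b hb
        rw [Ideal.mem_comap, show algebraMap P L b = algebraMap P L (b - c * x) + algebraMap P L (c * x) by
          rw [← map_add, sub_add_cancel]]
        refine Submodule.add_mem_sup (Ideal.mem_map_of_mem _ hcb) ?_
        rw [mul_comm, map_mul]
        refine Submodule.smul_mem_smul ?_ (Ideal.mem_map_of_mem _ hc)
        rw [← Localization.AtPrime.map_eq_maximalIdeal]
        exact Ideal.mem_map_of_mem _ hx𝔭
      have h1 := hle (Ideal.mem_map_of_mem (algebraMap P L) hp)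
      rw [IsLocalization.algebraMap_mem_map_algebraMap_iff 𝔭.primeCompl] at h1
      obtain ⟨s, hs, hsp⟩ := h1
      exact hs (h𝔭 ((hM s).2 hsp))
    · obtain ⟨N, hN⟩ := hGK p hp
      have h1 : E * x ^ N ∈ M := (hM _).2 (by rw [mul_assoc]; exact hEG _ hN)
      exact (h𝔭p.mem_or_mem (h𝔭 h1)).elim hE𝔭 (fun h => hx𝔭 (h𝔭p.mem_of_pow_mem N h))
  -- conclusion
  refine ⟨ρ E, hE, ?_⟩
  let χ₀ : Localization.Away E →+* Localization.Away (ρ E) :=
    IsLocalization.Away.lift E (g := (algebraMap C (Localization.Away (ρ E))).comp ρ.toRingHom)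
      (IsLocalization.Away.algebraMap_isUnit (ρ E))
  let χ : Localization.Away E →ₐ[R] Localization.Away (ρ E) :=
    { χ₀ with
      commutes' := fun r => by
        show χ₀ _ = _
        simp only [χ₀]
        rw [IsScalarTower.algebraMap_apply R P (Localization.Away E), IsLocalization.Away.lift_eq]
        show algebraMap C _ (ρ (algebraMap R P r)) = _
        rw [AlgHom.commutes, ← IsScalarTower.algebraMap_apply] }
  have hχ : ∀ p, χ (algebraMap P _ p) = algebraMap C _ (ρ p) := fun p => by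
    show χ₀ _ = _
    simp only [χ₀]
    exact IsLocalization.Away.lift_eq E _ p
  have hχs : Function.Surjective χ := fun z => by
    obtain ⟨⟨c, _, N, rfl⟩, hc⟩ := IsLocalization.surj (Submonoid.powers (ρ E)) z
    obtain ⟨p, rfl⟩ := hρ c
    refine ⟨IsLocalization.mk' (Localization.Away E) p (⟨E ^ N, N, rfl⟩ : Submonoid.powers E), ?_⟩
    refine ((IsLocalization.map_units (Localization.Away (ρ E)) (⟨ρ E ^ N, N, rfl⟩ : Submonoid.powers (ρ E))).mul_left_inj).1 ?_
    show χ _ * algebraMap C _ (ρ E ^ N) = z * algebraMap C _ (ρ E ^ N)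
    rw [hc, ← map_pow ρ, ← hχ, ← hχ, ← map_mul]
    exact congrArg χ (IsLocalization.mk'_spec (Localization.Away E) p (⟨E ^ N, N, rfl⟩ : Submonoid.powers E))
  have hkerχ : RingHom.ker χ.toRingHom = J.map (algebraMap P (Localization.Away E)) := by
    refine le_antisymm (fun w hw => ?_) (Ideal.map_le_iff_le_comap.2 fun b hb => ?_)
    · obtain ⟨⟨p, _, N, rfl⟩, hp⟩ := IsLocalization.surj (Submonoid.powers E) w
      have h0 : algebraMap C (Localization.Away (ρ E)) (ρ p) = 0 := by
        rw [← hχ, ← hp, map_mul, show χ w = 0 from hw, zero_mul]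
      obtain ⟨⟨s, M, rfl⟩, hs⟩ := (IsLocalization.map_eq_zero_iff (Submonoid.powers (ρ E)) _ (ρ p)).1 h0
      obtain ⟨m, hm⟩ := hmain (E ^ M * p) (show ρ (E ^ M * p) = 0 by rw [map_mul, map_pow]; exact hs)
      refine (Ideal.mul_unit_mem_iff_mem _ (IsLocalization.map_units (Localization.Away E)
        (⟨E ^ N, N, rfl⟩ : Submonoid.powers E))).1 ?_
      rw [hp, IsLocalization.algebraMap_mem_map_algebraMap_iff (Submonoid.powers E)]
      exact ⟨E ^ (m + M), ⟨m + M, rfl⟩, by rw [pow_add, mul_assoc]; exact hm⟩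
    · show χ _ = 0
      rw [hχ, show ρ b = 0 from hJK hb, map_zero]
  haveI : Algebra.FinitePresentation R (Localization.Away E) := Algebra.FinitePresentation.trans R P (Localization.Away E)
  exact Algebra.FinitePresentation.of_surjective hχs (by rw [hkerχ]; exact hJfg.map _)

end Groth.Agent.Lib.FS92.FinitePresNhd
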