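import Groth.Agent.Lib.FS92.BlowUp
import Groth.Agent.Lib.FS92.FinitePresNhd
import Groth.Agent.Lib.SmoothDesc.Scheme

/-! Smoothness of a blow-up along a smooth exceptional divisor. -/

set_option autoImplicit false

universe u

open CategoryTheory CategoryTheory.Limits AlgebraicGeometry TopologicalSpace

namespace Groth.Agent.Lib.FS92.BlowUpSmooth

open Groth.Agent.Lib.Synt92

variable {X X' S : Scheme.{u}}

/-- Rings of sections of a morphism restricted to an open containing the chart. -/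
theorem appLE_of_restrict (Q : ∀ {A B : Type u} [CommRing A] [CommRing B], (A →+* B) → Prop)
    (hQ : RingHom.RespectsIso Q) {f : X ⟶ S} {U : X.Opens} {O : X.Opens} {W : S.Opens} (hOU : O ≤ U)
    (hOW : O ≤ f ⁻¹ᵁ W) (h : Q ((U.ι ≫ f).appLE W (U.ι ⁻¹ᵁ O) (fun _ hx => hOW hx)).hom) :
    Q (f.appLE W O hOW).hom := by
  haveI : IsIso (U.ι.app O) := Scheme.Hom.isIso_app _ _ (by rw [Scheme.Opens.opensRange_ι]; exact hOU)
  rw [← Scheme.Hom.appLE_comp_appLE U.ι f W O (U.ι ⁻¹ᵁ O) hOW le_rfl, ← Scheme.Hom.app_eq_appLE] at h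
  exact (hQ.cancel_right_isIso (f.appLE W O hOW) (U.ι.app O)).1 h

theorem lfp_of_appLE (F : X ⟶ S) {O : X.Opens} (hO : IsAffineOpen O) {W : S.Opens} (hW : IsAffineOpen W)
    (e : O ≤ F ⁻¹ᵁ W) (h : (F.appLE W O e).hom.FinitePresentation) :
    LocallyOfFinitePresentation (O.ι ≫ F) := by
  haveI : IsAffine O.toScheme := hO
  haveI : IsAffine W.toScheme := hW
  haveI : LocallyOfFinitePresentation (F.resLE W O e) := by
    rw [HasRingHomProperty.iff_of_isAffine (P := @LocallyOfFinitePresentation)]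
    exact (RingHom.finitePresentation_respectsIso.arrow_mk_iso_iff
      (arrowResLEAppIso F W O e)).2 h
  rw [← Scheme.Hom.resLE_comp_ι (f := F) (e := e)]
  infer_instance

theorem lfp_off (g : X ⟶ S) [LocallyOfFinitePresentation g] {𝓘 : X.IdealSheafData} {b : X' ⟶ X}
    (hb : BlowUp.IsBlowUp b 𝓘) :
    LocallyOfFinitePresentation ((b ⁻¹ᵁ 𝓘.support.compl).ι ≫ b ≫ g) := by
  haveI := Ideal.BlowUp.isIso_off_center hb
  rw [← morphismRestrict_ι_assoc]
  infer_instance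

variable (g : X ⟶ S) [LocallyOfFinitePresentation g] {𝓘 : X.IdealSheafData}
  [LocallyOfFinitePresentation (𝓘.subschemeι ≫ g)] {b : X' ⟶ X}

/-- The blow-up is finitely presented near a smooth point of the exceptional divisor. -/
theorem exists_lfp_nhd (hb : BlowUp.IsBlowUp b 𝓘) (x' : (BlowUp.exceptional b 𝓘).subscheme)
    (V' : (BlowUp.exceptional b 𝓘).subscheme.Opens) (hx' : x' ∈ V')
    [Smooth (V'.ι ≫ (BlowUp.exceptional b 𝓘).subschemeι ≫ b ≫ g)] :
    ∃ U : X'.Opens, (BlowUp.exceptional b 𝓘).subschemeι x' ∈ U ∧ LocallyOfFinitePresentation (U.ι ≫ b ≫ g) := by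
  haveI := BlowUp.isProper (g := g) hb
  let ε := (BlowUp.exceptional b 𝓘).subschemeι
  let F := b ≫ g
  obtain ⟨O, hO, hOV⟩ := (Scheme.Hom.isEmbedding ε).isInducing.isOpen_iff.1 V'.2
  obtain ⟨U₀, hxU₀, t₀, ht₀, hJ₀⟩ := hb.1 (ε x')
  obtain ⟨W, hW, hxW, -⟩ := exists_isAffineOpen_mem_and_subset (x := F (ε x')) (U := (⊤ : S.Opens)) trivial
  obtain ⟨c, hc, hxc⟩ := U₀.2.exists_basicOpen_le (V := (⟨O, hO⟩ : X'.Opens) ⊓ F ⁻¹ᵁ W)
    ⟨ε x', (Set.ext_iff.1 hOV x').2 hx', hxW⟩ hxU₀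
  let U : X'.Opens := X'.basicOpen c
  have hU : IsAffineOpen U := U₀.2.basicOpen c
  have hUW : U ≤ F ⁻¹ᵁ W := fun x hx => (hc hx).2
  have hεU : ε ⁻¹ᵁ U ≤ V' := fun x hx => (Set.ext_iff.1 hOV x).1 (hc hx).1
  let t : Γ(X', U) := (X'.presheaf.map (homOfLE (X'.basicOpen_le c)).op).hom t₀
  haveI := U₀.2.isLocalization_basicOpen c
  have ht : t ∈ nonZeroDivisors Γ(X', U) :=
    IsLocalization.map_nonZeroDivisors_le (Submonoid.powers c) Γ(X', U) ⟨t₀, ht₀, rfl⟩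
  have hJ : (BlowUp.exceptional b 𝓘).ideal ⟨U, hU⟩ = Ideal.span {t} := by
    change (BlowUp.exceptional b 𝓘).ideal (X'.affineBasicOpen c) = _
    rw [← (BlowUp.exceptional b 𝓘).map_ideal_basicOpen, hJ₀, Ideal.map_span, Set.image_singleton]
  have hker : RingHom.ker (ε.app U).hom = Ideal.span {t} := by
    exact (Scheme.Hom.ker_apply ε ⟨U, hU⟩).symm.trans
      ((congrArg (fun I => I.ideal ⟨U, hU⟩) (Scheme.IdealSheafData.ker_subschemeι _)).trans hJ)
  obtain ⟨hA, hs⟩ := KRImm.isAffine_preimage ε hU (BlowUp.isClosedImmersion_restrict ε U)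
  letI : Algebra Γ(S, W) Γ(X', U) := (F.appLE W U hUW).hom.toAlgebra
  haveI : Algebra.FiniteType Γ(S, W) Γ(X', U) := F.finiteType_appLE hW hU hUW
  -- the divisor is smooth
  have hsm : ((ε ≫ F).appLE W (ε ⁻¹ᵁ U) (fun _ hx => hUW hx)).hom.Smooth := by
    refine appLE_of_restrict (fun φ => φ.Smooth) RingHom.Smooth.propertyIsLocal.respectsIso hεU _ ?_
    exact (V'.ι ≫ ε ≫ F).smooth_appLE hW
      (hA.preimage_of_isOpenImmersion V'.ι (by rw [Scheme.Opens.opensRange_ι]; exact hεU)) _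
  have hcomp : (ε.app U).hom.comp (F.appLE W U hUW).hom = ((ε ≫ F).appLE W (ε ⁻¹ᵁ U) (fun _ hx => hUW hx)).hom := by
    rw [← CommRingCat.hom_comp, Scheme.Hom.app_eq_appLE, Scheme.Hom.appLE_comp_appLE]
  let e : (Γ(X', U) ⧸ Ideal.span {t}) ≃+* Γ((BlowUp.exceptional b 𝓘).subscheme, ε ⁻¹ᵁ U) :=
    (Ideal.quotEquivOfEq hker.symm).trans (RingHom.quotientKerEquivOfSurjective hs)
  haveI : Algebra.Smooth Γ(S, W) (Γ(X', U) ⧸ Ideal.span {t}) := by
    rw [← RingHom.smooth_algebraMap]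
    have h1 := RingHom.Smooth.propertyIsLocal.respectsIso.1 _ e.symm hsm
    convert h1 using 1
    refine RingHom.ext fun r => ?_
    show _ = e.symm (((ε ≫ F).appLE W (ε ⁻¹ᵁ U) _).hom r)
    rw [← hcomp, RingEquiv.eq_symm_apply]
    rfl
  -- off the divisor
  haveI := lfp_off g hb
  have hoff : X'.basicOpen t ≤ b ⁻¹ᵁ 𝓘.support.compl := by
    intro x hx hmem
    have hxs : x ∈ (BlowUp.exceptional b 𝓘).support := by
      show x ∈ (𝓘.comap b).support
      rw [Scheme.IdealSheafData.support_comap]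
      exact hmem
    obtain ⟨z, rfl⟩ := (BlowUp.exceptional b 𝓘).range_subschemeι.ge hxs
    have h1 : z ∈ ε ⁻¹ᵁ X'.basicOpen t := hx
    rw [Scheme.preimage_basicOpen] at h1
    erw [show (ε.app U).hom t = 0 from RingHom.mem_ker.1 (hker ▸ Ideal.subset_span rfl),
      Scheme.basicOpen_zero] at h1
    exact h1
  have htW : X'.basicOpen t ≤ F ⁻¹ᵁ W := (X'.basicOpen_le t).trans hUW
  have hfp : (F.appLE W (X'.basicOpen t) htW).hom.FinitePresentation := by
    refine appLE_of_restrict (fun φ => φ.FinitePresentation) RingHom.finitePresentation_respectsIso hoff _ ?_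
    exact ((b ⁻¹ᵁ 𝓘.support.compl).ι ≫ F).finitePresentation_appLE hW
      ((hU.basicOpen t).preimage_of_isOpenImmersion _ (by rw [Scheme.Opens.opensRange_ι]; exact hoff)) _
  have hres : ∀ (a : Γ(X', U)), (algebraMap Γ(X', U) Γ(X', X'.basicOpen a)).comp (F.appLE W U hUW).hom =
      (F.appLE W (X'.basicOpen a) ((X'.basicOpen_le a).trans hUW)).hom := fun a => by
    rw [← Scheme.Hom.appLE_map F hUW (homOfLE (X'.basicOpen_le a)).op, CommRingCat.hom_comp]
    rfl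
  haveI := hU.isLocalization_basicOpen t
  haveI : Algebra.FinitePresentation Γ(S, W) (Localization.Away t) := by
    rw [← RingHom.finitePresentation_algebraMap]
    have h1 := RingHom.finitePresentation_respectsIso.1 _
      (IsLocalization.algEquiv (Submonoid.powers t) Γ(X', X'.basicOpen t) (Localization.Away t)).toRingEquiv hfp
    convert h1 using 1
    refine RingHom.ext fun r => ?_
    rw [← hres, IsScalarTower.algebraMap_apply Γ(S, W) Γ(X', U) (Localization.Away t)]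
    exact ((IsLocalization.algEquiv (Submonoid.powers t) Γ(X', X'.basicOpen t) (Localization.Away t)).commutes _).symm
  let q := (hU.primeIdealOf ⟨ε x', hxc⟩)
  haveI : q.asIdeal.IsPrime := q.isPrime
  have htq : t ∈ q.asIdeal := by
    by_contra h
    have h1 : ε x' ∈ X'.basicOpen t := (KRImm.mem_basicOpen_iff hU t ⟨ε x', hxc⟩).2 h
    have h2 : x' ∈ ε ⁻¹ᵁ X'.basicOpen t := h1
    rw [Scheme.preimage_basicOpen] at h2
    erw [show (ε.app U).hom t = 0 from RingHom.mem_ker.1 (hker ▸ Ideal.subset_span rfl),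
      Scheme.basicOpen_zero] at h2
    exact h2
  obtain ⟨h, hhq, hhfp⟩ := FinitePresNhd.exists_fp_nhd (R := Γ(S, W)) t ht q.asIdeal htq
  refine ⟨X'.basicOpen h, (KRImm.mem_basicOpen_iff hU h ⟨ε x', hxc⟩).2 hhq,
    lfp_of_appLE F (hU.basicOpen h) hW ((X'.basicOpen_le h).trans hUW) ?_⟩
  haveI := hU.isLocalization_basicOpen h
  rw [← RingHom.finitePresentation_algebraMap] at hhfp
  have h1 := RingHom.finitePresentation_respectsIso.1 _
    (IsLocalization.algEquiv (Submonoid.powers h) (Localization.Away h) Γ(X', X'.basicOpen h)).toRingEquiv hhfp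
  convert h1 using 1
  refine RingHom.ext fun r => ?_
  rw [← hres]
  show _ = (IsLocalization.algEquiv (Submonoid.powers h) (Localization.Away h) Γ(X', X'.basicOpen h))
    (algebraMap Γ(S, W) (Localization.Away h) r)
  rw [IsScalarTower.algebraMap_apply Γ(S, W) Γ(X', U) (Localization.Away h), AlgEquiv.commutes]
  rfl

/-- The blow-up is smooth near a smooth point of the exceptional divisor. -/
theorem exists_smooth_nhd (hb : BlowUp.IsBlowUp b 𝓘) (x' : (BlowUp.exceptional b 𝓘).subscheme)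
    (V' : (BlowUp.exceptional b 𝓘).subscheme.Opens) (hx' : x' ∈ V')
    [Smooth (V'.ι ≫ (BlowUp.exceptional b 𝓘).subschemeι ≫ b ≫ g)] :
    ∃ W : X'.Opens, (BlowUp.exceptional b 𝓘).subschemeι x' ∈ W ∧ Smooth (W.ι ≫ b ≫ g) := by
  obtain ⟨U, hxU, hlfp⟩ := exists_lfp_nhd g hb x' V' hx'
  have h1 := BlowUp.formallySmooth_stalkMap (g := g) hb x' V' hx'
  have h2 : ((U.ι ≫ b ≫ g).stalkMap ⟨_, hxU⟩).hom.FormallySmooth :=
    (Descend.formallySmooth_comp_iff U.ι (b ≫ g) ⟨_, hxU⟩).2 h1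
  haveI := DiffSmoothLimit.smooth_restrict (U.ι ≫ b ≫ g) (W := (U.ι ≫ b ≫ g).smoothLocus) le_rfl
  refine ⟨U.ι ''ᵁ (U.ι ≫ b ≫ g).smoothLocus, ⟨⟨_, hxU⟩, h2, rfl⟩, ?_⟩
  rw [← (U.ι.isoImage (U.ι ≫ b ≫ g).smoothLocus).inv_hom_id_assoc
    ((U.ι ''ᵁ (U.ι ≫ b ≫ g).smoothLocus).ι ≫ b ≫ g), Scheme.Hom.isoImage_hom_ι_assoc]
  exact MorphismProperty.comp_mem _ _ _ inferInstance ‹_›

/-- Smoothness of the centre and of the exceptional divisor. -/
theorem main (hb : BlowUp.IsBlowUp b 𝓘)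
    (f : (BlowUp.exceptional b 𝓘).subscheme ⟶ 𝓘.subscheme)
    (hf : f ≫ 𝓘.subschemeι = (BlowUp.exceptional b 𝓘).subschemeι ≫ b) [Smooth f]
    (x' : (BlowUp.exceptional b 𝓘).subscheme) :
    ((∃ V : 𝓘.subscheme.Opens, f x' ∈ V ∧ Smooth (V.ι ≫ 𝓘.subschemeι ≫ g)) ↔
        ∃ V' : (BlowUp.exceptional b 𝓘).subscheme.Opens, x' ∈ V' ∧
          Smooth (V'.ι ≫ (BlowUp.exceptional b 𝓘).subschemeι ≫ b ≫ g)) ∧
      ((∃ V' : (BlowUp.exceptional b 𝓘).subscheme.Opens, x' ∈ V' ∧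
          Smooth (V'.ι ≫ (BlowUp.exceptional b 𝓘).subschemeι ≫ b ≫ g)) →
        ∃ W : X'.Opens, (BlowUp.exceptional b 𝓘).subschemeι x' ∈ W ∧ Smooth (W.ι ≫ b ≫ g)) := by
  refine ⟨⟨fun ⟨V, hxV, hV⟩ => ⟨f ⁻¹ᵁ V, hxV, ?_⟩, fun ⟨V', hxV', hV'⟩ => ?_⟩,
    fun ⟨V', hxV', hV'⟩ => exists_smooth_nhd g hb x' V' hxV'⟩
  · rw [← reassoc_of% hf, ← morphismRestrict_ι_assoc]
    haveI : Smooth (f ∣_ V) := IsZariskiLocalAtTarget.restrict ‹_› V
    exact MorphismProperty.comp_mem _ _ _ ‹_› hV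
  · let O : 𝓘.subscheme.Opens := ⟨f '' V', f.isOpenMap _ V'.2⟩
    have hle : V' ≤ f ⁻¹ᵁ O := fun x hx => ⟨x, hx, rfl⟩
    refine ⟨O, ⟨x', hxV', rfl⟩, ?_⟩
    let e := f.resLE O V' hle
    haveI : Smooth e := by
      haveI : Smooth (e ≫ O.ι) := by rw [Scheme.Hom.resLE_comp_ι]; infer_instance
      exact MorphismProperty.of_isPullback
        (IsPullback.of_horiz_isIso_mono (fst := 𝟙 _) (snd := e) (f := e ≫ O.ι) (g := O.ι) ⟨by rw [Category.id_comp]⟩) ‹_›
    haveI : Surjective e := ⟨fun y => by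
      obtain ⟨x, hx, hxy⟩ := y.2
      exact ⟨⟨x, hx⟩, Subtype.ext ((Scheme.Hom.coe_resLE_apply _ _ _).trans hxy)⟩⟩
    haveI : Smooth (e ≫ O.ι ≫ 𝓘.subschemeι ≫ g) := by
      rw [← Category.assoc, Scheme.Hom.resLE_comp_ι, Category.assoc, reassoc_of% hf]
      exact hV'
    exact SmoothDesc.Scheme.smooth_of_comp e (O.ι ≫ 𝓘.subschemeι ≫ g)

end Groth.Agent.Lib.FS92.BlowUpSmooth
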