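import Groth.Agent.Lib.Synt92.QuasiSection
import Groth.Agent.Lib.Synt92.KRSmooth
import Groth.Agent.Lib.Synt92.CubeBase
import Groth.Agent.H26.RegKinds
import Groth.Agent.H26.H1Quasi
import Mathlib.RingTheory.Smooth.Flat
import Mathlib.RingTheory.RingHom.Flat
import Mathlib.LinearAlgebra.TensorProduct.RightExactness
import Mathlib.RingTheory.TensorProduct.MvPolynomial

/-! A finite type algebra with a smooth quotient by a nonzerodivisor is finitely presented along it. -/

set_option autoImplicit false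

universe u

open MvPolynomial TensorProduct
open Groth.Agent.Lib.KindDesc

namespace Groth.Agent.Lib.FS92.FinitePres

open Groth.Agent.Lib.Synt92 Groth.Agent.Lib.Wiebe.Link

theorem quasi_of_acyc {A : Type u} [CommRing A] {n : ℕ} {f : Fin n → A} (hf : Acyc f) :
    CAlgX.IsQuasiRegular f := by
  refine H26.H1Quasi.isQuasiRegular ?_
  rw [H26.H1Quasi.isH1Regular_iff]
  exact fun a ha => KoszulH1.isTriv_of_acyc hf a (by simpa [mul_comm] using ha)

theorem exists_span_ker_aux {R C B0 T : Type u} [CommRing R] [CommRing C] [Algebra R C] [CommRing B0] [CommRing T]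
    [Algebra C B0] [Algebra R B0] [IsScalarTower R C B0] [Algebra B0 T] [Algebra R T] [IsScalarTower R B0 T]
    [Algebra.Smooth R B0] (hsurj : Function.Surjective (algebraMap C B0)) {n : ℕ}
    (ρ : MvPolynomial (Fin n) R →ₐ[R] C) (hρ : Function.Surjective ρ) (q : Ideal C) [q.IsPrime]
    (qb : Ideal B0) [qb.IsPrime] (hqb : qb.comap (algebraMap C B0) = q) [IsLocalization.AtPrime T qb]
    (t : C) (ht : t ∈ nonZeroDivisors C) (hkt : RingHom.ker (algebraMap C B0) = Ideal.span {t}) :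
    ∃ K : Finset (MvPolynomial (Fin n) R), (∀ p ∈ K, ρ p = 0) ∧
      ∀ p, ρ p = 0 → ∃ e, ρ e ∉ q ∧ e * p ∈ Ideal.span (K : Set (MvPolynomial (Fin n) R)) := by
  classical
  haveI : IsLocalRing T := IsLocalization.AtPrime.isLocalRing T qb
  -- the graph
  let ψ : C ⊗[R] B0 →ₐ[C] B0 :=
    Algebra.TensorProduct.lift (Algebra.ofId C B0) (AlgHom.id R B0) fun _ _ => Commute.all _ _
  let Q0 : Ideal (C ⊗[R] B0) := qb.comap ψ.toRingHom
  haveI : Q0.IsPrime := Ideal.IsPrime.comap _
  have hQ0 : RingHom.ker ψ.toRingHom ≤ Q0 := fun x hx => by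
    rw [Ideal.mem_comap, RingHom.mem_ker.1 hx]
    exact zero_mem _
  have hQ0q : Q0.under C = q := by
    rw [← hqb]
    ext c
    show ψ (algebraMap C (C ⊗[R] B0) c) ∈ qb ↔ algebraMap C B0 c ∈ qb
    rw [ψ.commutes]
  have hkoz : KRLoc.Gen 1 (RingHom.ker (algebraMap C B0)) := by
    refine ⟨fun _ => t, CubeBase.acyc_of_isWeaklyRegular _ ?_, ?_⟩
    · rw [show (List.ofFn fun _ : Fin 1 => t) = [t] from rfl]
      refine RingTheory.Sequence.IsWeaklyRegular.cons ?_ (RingTheory.Sequence.IsWeaklyRegular.nil _ _)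
      exact fun a b hab => (mul_cancel_left_mem_nonZeroDivisors ht).1 hab
    · rw [Set.range_const]
      exact hkt
  obtain ⟨m, g, hg, hgen⟩ := KRSmooth.genLoc_up (A := C) (B := C ⊗[R] B0) (C := B0)
    hsurj ψ Q0 hQ0 (by rw [hQ0q]; exact KRLoc.genLoc_of_gen hkoz q)
  -- the local base
  haveI : Module.Flat B0 T := IsLocalization.flat _ qb.primeCompl
  haveI : Module.Flat R T := Module.Flat.trans R B0 T
  let C' := T ⊗[R] C
  let fT : B0 →ₐ[R] T := IsScalarTower.toAlgHom R B0 T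
  let φ : C ⊗[R] B0 →ₐ[R] C' :=
    (Algebra.TensorProduct.map fT (AlgHom.id R C)).comp (Algebra.TensorProduct.comm R C B0).toAlgHom
  have hφ : ∀ c b, φ (c ⊗ₜ b) = algebraMap B0 T b ⊗ₜ c := fun c b => by simp [φ, fT]
  have hφflat : RingHom.Flat (R := C ⊗[R] B0) (S := C') φ.toRingHom := by
    refine RingHom.Flat.comp (RingHom.Flat.of_bijective (Algebra.TensorProduct.comm R C B0).bijective) ?_
    exact RingHom.Flat.tensorProductMap (f := fT) (g := AlgHom.id R C)
      (RingHom.flat_algebraMap_iff.2 ‹Module.Flat B0 T›) (RingHom.Flat.of_bijective Function.bijective_id)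
  let σ : C' →ₐ[T] T :=
    Algebra.TensorProduct.lift (AlgHom.id T T) (fT.comp (IsScalarTower.toAlgHom R C B0)) fun _ _ => Commute.all _ _
  have hσφ : ∀ w, σ (φ w) = algebraMap B0 T (ψ w) := fun w => by
    induction w using TensorProduct.induction_on with
    | zero => simp
    | tmul c b =>
      rw [hφ, show σ (algebraMap B0 T b ⊗ₜ[R] c) = algebraMap B0 T b * algebraMap B0 T (algebraMap C B0 c) from
        Algebra.TensorProduct.lift_tmul _ _ _ _ _,
        show ψ (c ⊗ₜ[R] b) = algebraMap C B0 c * b from Algebra.TensorProduct.lift_tmul _ _ _ _ _, map_mul, mul_comm]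
    | add a b ha hb => simp [ha, hb]
  have hden : ∀ z : C', ∃ s, s ∉ qb ∧ ∃ w, (algebraMap B0 T s ⊗ₜ[R] (1 : C)) * z = φ w := by
    intro z
    induction z using TensorProduct.induction_on with
    | zero => exact ⟨1, fun h => (inferInstance : qb.IsPrime).ne_top ((Ideal.eq_top_iff_one _).2 h), 0, by simp⟩
    | tmul a c =>
      obtain ⟨⟨b, s, hs⟩, hbs⟩ := IsLocalization.surj qb.primeCompl a
      refine ⟨s, hs, c ⊗ₜ b, ?_⟩
      rw [hφ, Algebra.TensorProduct.tmul_mul_tmul, one_mul, mul_comm, hbs]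
    | add a b ha hb =>
      obtain ⟨s, hs, w, hw⟩ := ha
      obtain ⟨s', hs', w', hw'⟩ := hb
      refine ⟨s * s', qb.primeCompl.mul_mem hs hs', ((1 : C) ⊗ₜ s') * w + ((1 : C) ⊗ₜ s) * w', ?_⟩
      rw [map_add φ, map_mul φ, map_mul φ, hφ, hφ, ← hw, ← hw', map_mul,
        show ((algebraMap B0 T) s * (algebraMap B0 T) s') ⊗ₜ[R] (1 : C) =
          ((algebraMap B0 T) s ⊗ₜ[R] (1 : C)) * ((algebraMap B0 T) s' ⊗ₜ[R] (1 : C)) by simp]
      ring
  have hunit : ∀ s, s ∉ qb → IsUnit (algebraMap B0 T s ⊗ₜ[R] (1 : C)) := fun s hs =>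
    (IsLocalization.map_units T (⟨s, hs⟩ : qb.primeCompl)).map
      (Algebra.TensorProduct.includeLeftRingHom : T →+* C')
  have hker : (RingHom.ker ψ.toRingHom).map φ.toRingHom = RingHom.ker σ.toRingHom := by
    refine le_antisymm (Ideal.map_le_iff_le_comap.2 fun w hw => ?_) fun z hz => ?_
    · show σ (φ w) = 0
      rw [hσφ, show ψ w = 0 from hw, map_zero]
    · obtain ⟨s, hs, w, hw⟩ := hden z
      have h0 : algebraMap B0 T (ψ w) = 0 := by
        rw [← hσφ, ← hw, map_mul, show σ z = 0 from hz, mul_zero]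
      obtain ⟨⟨r, hr⟩, hrw⟩ := (IsLocalization.map_eq_zero_iff qb.primeCompl T (ψ w)).1 h0
      refine (Ideal.unit_mul_mem_iff_mem _ ((hunit s hs).mul (hunit r hr))).1 ?_
      rw [mul_comm (algebraMap B0 T s ⊗ₜ[R] (1 : C)), mul_assoc, hw, ← hφ, ← map_mul]
      refine Ideal.mem_map_of_mem φ.toRingHom ?_
      show ψ (((1 : C) ⊗ₜ r) * w) = 0
      rw [map_mul, show ψ ((1 : C) ⊗ₜ r) = r by simp [ψ]]
      exact hrw
  let Q : Ideal C' := (IsLocalRing.maximalIdeal T).comap σ.toRingHom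
  haveI : Q.IsPrime := Ideal.IsPrime.comap _
  have hgQ : φ g ∉ Q := fun h => hg (by
    rw [Ideal.mem_comap]
    exact (IsLocalization.AtPrime.to_map_mem_maximal_iff T qb _).1 (hσφ g ▸ h))
  have hG : Loc.Gen Quasi (1 + m) ((RingHom.ker σ.toRingHom).map (algebraMap C' (Localization.AtPrime Q))) := by
    rw [← hker, Ideal.map_map]
    letI : Algebra (C ⊗[R] B0) (Localization.AtPrime Q) :=
      ((algebraMap C' (Localization.AtPrime Q)).comp φ.toRingHom).toAlgebra
    haveI : Module.Flat (C ⊗[R] B0) (Localization.AtPrime Q) :=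
      hφflat.comp (RingHom.flat_algebraMap_iff.2 (IsLocalization.flat _ Q.primeCompl))
    obtain ⟨f, hf, hfe⟩ := KRLoc.gen_of_isUnit g (Localization.Away g) hgen (Localization.AtPrime Q)
      (IsLocalization.map_units (Localization.AtPrime Q) (⟨φ g, hgQ⟩ : Q.primeCompl))
    exact ⟨f, quasi_of_acyc hf, hfe⟩
  -- presentations
  let ρ' : MvPolynomial (Fin n) T →ₐ[T] C' := aeval fun i => (1 : T) ⊗ₜ[R] ρ (X i)
  let e := algebraTensorAlgEquiv (σ := Fin n) R T
  have hρe : ∀ z, ρ' (e z) = Algebra.TensorProduct.map (AlgHom.id T T) ρ z := fun z => by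
    have : ρ'.comp e.toAlgHom = Algebra.TensorProduct.map (AlgHom.id T T) ρ := by
      refine Algebra.TensorProduct.ext (Subsingleton.elim _ _) (MvPolynomial.algHom_ext fun i => ?_)
      simp [ρ', e]
      rfl
    exact DFunLike.congr_fun this z
  have hρ' : Function.Surjective ρ' := fun y => by
    induction y using TensorProduct.induction_on with
    | zero => exact ⟨0, map_zero _⟩
    | tmul a c =>
      obtain ⟨p, rfl⟩ := hρ c
      exact ⟨e (a ⊗ₜ p), by rw [hρe]; rfl⟩
    | add a b ha hb =>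
      obtain ⟨u, rfl⟩ := ha
      obtain ⟨v, rfl⟩ := hb
      exact ⟨u + v, map_add _ _ _⟩
  obtain ⟨T₁, hT₁, hkill⟩ := QuasiSection.exists_span_ker (C := C') ρ' hρ' σ Q rfl hG
  let J0 := RingHom.ker ρ.toRingHom
  let μ : MvPolynomial (Fin n) R →+* MvPolynomial (Fin n) T := MvPolynomial.map (algebraMap R T)
  have heμ : ∀ p, e ((1 : T) ⊗ₜ p) = μ p := fun p => by simp [e, μ, algebraTensorAlgEquiv_tmul]
  have hkerρ' : ∀ p, ρ' p = 0 → p ∈ J0.map μ := by
    intro p hp
    obtain ⟨z, rfl⟩ := e.surjective p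
    have hz : z ∈ RingHom.ker (Algebra.TensorProduct.map (AlgHom.id R T) ρ) := by
      rw [RingHom.mem_ker]
      exact ((hρe z).symm.trans hp : _)
    rw [Algebra.TensorProduct.lTensor_ker _ hρ] at hz
    refine (Ideal.map_le_iff_le_comap.2 fun x hx => ?_ : _ ≤ (J0.map μ).comap e.toRingEquiv.toRingHom) hz
    show e ((1 : T) ⊗ₜ x) ∈ J0.map μ
    rw [heμ]
    exact Ideal.mem_map_of_mem μ hx
  have hspan : ∀ p ∈ T₁, ∃ S : Finset (MvPolynomial (Fin n) R), (∀ x ∈ S, ρ x = 0) ∧
      p ∈ (Ideal.span (S : Set (MvPolynomial (Fin n) R))).map μ := by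
    intro p hp
    obtain ⟨S, hS1, hS2⟩ := Submodule.mem_span_finite_of_mem_span (hkerρ' p (hT₁ p hp))
    choose x hx hxS using hS1
    refine ⟨S.attach.image fun a => x a.2, fun y hy => ?_, ?_⟩
    · obtain ⟨a, -, rfl⟩ := Finset.mem_image.1 hy
      exact hx a.2
    · rw [Ideal.map_span]
      refine Ideal.span_mono ?_ hS2
      intro a ha
      exact ⟨x ha, by simp only [Finset.coe_image, Set.mem_image]; exact ⟨⟨a, ha⟩, Finset.mem_attach _ _, rfl⟩, hxS ha⟩
  choose! S hS hpS using hspan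
  let K := Ideal.span ((T₁.biUnion S : Finset _) : Set (MvPolynomial (Fin n) R))
  have hTK : Ideal.span (T₁ : Set (MvPolynomial (Fin n) T)) ≤ K.map μ := Ideal.span_le.2 fun p hp =>
    Ideal.map_mono (Ideal.span_mono (Finset.coe_subset.2 (Finset.subset_biUnion_of_mem S hp))) (hpS p hp)
  let q' : Ideal (MvPolynomial (Fin n) R) := q.comap ρ.toRingHom
  let Q'' : Ideal (MvPolynomial (Fin n) T) := Q.comap ρ'.toRingHom
  haveI : q'.IsPrime := Ideal.IsPrime.comap _
  haveI : Q''.IsPrime := Ideal.IsPrime.comap _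
  have hQq : Q''.comap μ = q' := by
    ext p
    show σ (ρ' (μ p)) ∈ IsLocalRing.maximalIdeal T ↔ ρ p ∈ q
    rw [← heμ, hρe, show σ ((Algebra.TensorProduct.map (AlgHom.id T T) ρ) (1 ⊗ₜ p)) = algebraMap B0 T (algebraMap C B0 (ρ p)) from
      (Algebra.TensorProduct.lift_tmul _ _ _ (1 : T) (ρ p)).trans (one_mul _)]
    rw [IsLocalization.AtPrime.to_map_mem_maximal_iff T qb, ← hqb]
    rfl
  have hμflat : μ.Flat := by
    have h1 : (Algebra.TensorProduct.map (Algebra.ofId R T) (AlgHom.id R (MvPolynomial (Fin n) R))).toRingHom.Flat :=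
      RingHom.Flat.tensorProductMap (f := Algebra.ofId R T) (g := AlgHom.id R _)
        (RingHom.flat_algebraMap_iff.2 ‹Module.Flat R T›) (RingHom.Flat.of_bijective Function.bijective_id)
    have h2 := (RingHom.Flat.of_bijective (f := ((Algebra.TensorProduct.lid R (MvPolynomial (Fin n) R)).symm.toRingEquiv.toRingHom))
      (Algebra.TensorProduct.lid R (MvPolynomial (Fin n) R)).symm.bijective).comp h1
    have h3 := h2.comp (RingHom.Flat.of_bijective (f := e.toRingEquiv.toRingHom) e.bijective)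
    convert h3 using 1
    exact RingHom.ext fun p => by
      show μ p = e (Algebra.TensorProduct.map (Algebra.ofId R T) (AlgHom.id R _) ((Algebra.TensorProduct.lid R _).symm p))
      simp [heμ]
  letI := μ.toAlgebra
  haveI : Module.Flat (MvPolynomial (Fin n) R) (MvPolynomial (Fin n) T) := hμflat
  haveI : Q''.LiesOver q' := ⟨hQq.symm⟩
  let L := Localization.AtPrime q'
  let L2 := Localization.AtPrime Q''
  letI := Localization.AtPrime.algebraOfLiesOver q' Q''
  haveI : Module.Flat (MvPolynomial (Fin n) T) L2 := IsLocalization.flat _ Q''.primeCompl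
  haveI : Module.Flat (MvPolynomial (Fin n) R) L2 := Module.Flat.trans _ (MvPolynomial (Fin n) T) _
  haveI : Module.Flat L L2 := (Module.flat_iff_of_isLocalization L q'.primeCompl _).mpr ‹_›
  haveI : IsLocalHom (algebraMap L L2) := inferInstance
  haveI : Module.FaithfullyFlat L L2 := Module.FaithfullyFlat.of_flat_of_isLocalHom
  refine ⟨T₁.biUnion S, fun p hp => ?_, fun p hp => ?_⟩
  · obtain ⟨a, ha, hpa⟩ := Finset.mem_biUnion.1 hp
    exact hS a ha p hpa
  have h0 : ρ' (μ p) = 0 := by rw [← heμ, hρe]; simp [hp]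
  obtain ⟨e₁, he₁, hep⟩ := hkill (μ p) h0
  have h1 : algebraMap (MvPolynomial (Fin n) T) L2 (μ p) ∈ (K.map μ).map (algebraMap _ L2) := by
    rw [IsLocalization.algebraMap_mem_map_algebraMap_iff Q''.primeCompl]
    exact ⟨e₁, he₁, hTK hep⟩
  have h2 : algebraMap L L2 (algebraMap _ L p) ∈ (K.map (algebraMap _ L)).map (algebraMap L L2) := by
    rw [Ideal.map_map, ← IsScalarTower.algebraMap_eq, ← IsScalarTower.algebraMap_apply,
      IsScalarTower.algebraMap_eq _ (MvPolynomial (Fin n) T) L2, ← Ideal.map_map, RingHom.comp_apply]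
    exact h1
  have h3 : algebraMap _ L p ∈ K.map (algebraMap _ L) := by
    rw [← Ideal.comap_map_eq_self_of_faithfullyFlat (B := L2) (K.map (algebraMap _ L))]
    exact h2
  rw [IsLocalization.algebraMap_mem_map_algebraMap_iff q'.primeCompl] at h3
  obtain ⟨s, hs, hsp⟩ := h3
  exact ⟨s, hs, hsp⟩

theorem exists_span_ker_at {R C : Type u} [CommRing R] [CommRing C] [Algebra R C] {n : ℕ}
    (ρ : MvPolynomial (Fin n) R →ₐ[R] C) (hρ : Function.Surjective ρ) (q : Ideal C) [q.IsPrime]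
    (t : C) (ht : t ∈ nonZeroDivisors C) (htq : t ∈ q) [Algebra.Smooth R (C ⧸ Ideal.span {t})] :
    ∃ T : Finset (MvPolynomial (Fin n) R), (∀ p ∈ T, ρ p = 0) ∧
      ∀ p, ρ p = 0 → ∃ e, ρ e ∉ q ∧ e * p ∈ Ideal.span (T : Set (MvPolynomial (Fin n) R)) := by
  have hle : Ideal.span {t} ≤ q := by rwa [Ideal.span_singleton_le_iff_mem]
  have hqb : (q.map (Ideal.Quotient.mk (Ideal.span {t}))).comap (algebraMap C (C ⧸ Ideal.span {t})) = q := by
    show (q.map (Ideal.Quotient.mk _)).comap (Ideal.Quotient.mk _) = q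
    rw [Ideal.comap_map_of_surjective _ Ideal.Quotient.mk_surjective, ← RingHom.ker_eq_comap_bot, Ideal.mk_ker,
      sup_eq_left.2 hle]
  haveI : (q.map (Ideal.Quotient.mk (Ideal.span {t}))).IsPrime :=
    Ideal.map_isPrime_of_surjective Ideal.Quotient.mk_surjective (by rwa [Ideal.mk_ker])
  exact exists_span_ker_aux (T := Localization.AtPrime (q.map (Ideal.Quotient.mk (Ideal.span {t}))))
    Ideal.Quotient.mk_surjective ρ hρ q _ hqb t ht Ideal.mk_ker

end Groth.Agent.Lib.FS92.FinitePres
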